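import Cfsg.Agent.H387.VO.Main
import Cfsg.Agent.H419.Spor.Co2
import Cfsg.Agent.Co2Type.Co2Rels

/-!
# S4987, the row `Co₂`, `p = 5` (helper220)

Two explicit elements of orders `15` and `20` of `Co₂` (words in the letters of `Co2Type.Co2El`) with trace `1` on the
Leech lattice: the character of degree `23` vanishes at them.
-/

set_option autoImplicit false

namespace Cfsg.Agent.H220.S4987.Co2

open Cfsg Cfsg.Agent.H713 Cfsg.Agent.H419.Row Cfsg.Agent.H419.Count Cfsg.Agent.H419.LeechFix Cfsg.Agent.H419.LeechIrr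
open Cfsg.Agent.LeechMat.Words Cfsg.Agent.Co2Type.Co2El Cfsg.Agent.Co2Type.MatsData Cfsg.Agent.Co2Type.Mono
open Cfsg.Agent.Co2Type.Co2Rels

universe u

/-- `w` repeated `n` times -/
def rep (w : List ℕ) : ℕ → List ℕ
  | 0 => []
  | n + 1 => w ++ rep w n

theorem prodW_append {G : Type*} [Group G] (a : ℕ → G) (w w' : List ℕ) :
    prodW a (w ++ w') = prodW a w * prodW a w' := by
  induction w with
  | nil => rw [List.nil_append, prodW, one_mul]
  | cons i w ih => rw [List.cons_append, prodW, prodW, ih, mul_assoc]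

theorem prodW_rep {G : Type*} [Group G] (a : ℕ → G) (w : List ℕ) (n : ℕ) :
    prodW a (rep w n) = prodW a w ^ n := by
  induction n with
  | zero => rw [pow_zero]; rfl
  | succ n ih => rw [rep, prodW_append, ih, pow_succ']

theorem mem_rep {w : List ℕ} {n i : ℕ} (h : i ∈ rep w n) : i ∈ w := by
  induction n with
  | zero => exact absurd h List.not_mem_nil
  | succ n ih =>
    rcases List.mem_append.1 h with h | h
    · exact h
    · exact ih h

/-- the element of `Spor.Co2` of a word -/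
noncomputable def wd (w : List ℕ) : Spor.Co2 :=
  ⟨((prodW el w : Co0) : Equiv.Perm leechLattice), (prodW el w : Co0).2, prodW_smul w⟩

theorem toCo0_wd (w : List ℕ) : toCo0 (wd w) = prodW el w := rfl

theorem pow_eq_one {w : List ℕ} (hw : ∀ i ∈ w, i < 17) {n : ℕ} (h : same Ms Ss (rep w n) [] = true) :
    wd w ^ n = 1 := by
  apply toCo0_injective
  rw [map_pow, toCo0_wd, ← prodW_rep, map_one]
  exact same_sound (fun i hi => (good_el (hw i (mem_rep (by simpa using hi)))).1)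
    (fun i hi => Ss_eq i (hw i (mem_rep (by simpa using hi)))) h

theorem pow_ne_one {w L : List ℕ} (hw : ∀ i ∈ w, i < 17) {n : ℕ} (h : diag (rep w n) L = true)
    (hL : ∑ k : Fin 24, ((L.getD k 0 : ℤ) - 16) ≠ 192) : wd w ^ n ≠ 1 := by
  intro hc
  apply hL
  rw [← tr8_word (fun i hi => hw i (mem_rep hi)) h, prodW_rep, ← toCo0_wd, ← map_pow, hc, map_one,
    Cfsg.Agent.SigZeroCo2.Lin.tr8_one]

/-- The words of orders 15 and 20. -/
def w15 : List ℕ := [7, 16, 1, 2, 15]
def w20 : List ℕ := [16, 5, 3, 10, 1]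

theorem lt15 : ∀ i ∈ w15, i < 17 := by decide
theorem lt20 : ∀ i ∈ w20, i < 17 := by decide

theorem pow15 : wd w15 ^ 15 = 1 := pow_eq_one lt15 (by decide +kernel)
theorem pow20 : wd w20 ^ 20 = 1 := pow_eq_one lt20 (by decide +kernel)

theorem ne15a : wd w15 ^ 5 ≠ 1 :=
  pow_ne_one lt15 (L := [20, 20, 16, 16, 16, 16, 20, 20, 20, 20, 16, 20, 16, 16, 20, 20, 20, 16, 16, 16, 20, 16,
    16, 20]) (by decide +kernel) (by decide +kernel)
theorem ne15b : wd w15 ^ 3 ≠ 1 :=
  pow_ne_one lt15 (L := [20, 16, 14, 16, 18, 18, 16, 20, 16, 18, 14, 16, 18, 18, 14, 16, 18, 18, 16, 20, 18, 18,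
    20, 20]) (by decide +kernel) (by decide +kernel)
theorem ne20a : wd w20 ^ 10 ≠ 1 :=
  pow_ne_one lt20 (L := [22, 18, 18, 18, 18, 18, 14, 18, 18, 22, 22, 18, 18, 18, 18, 18, 22, 18, 18, 18, 18, 22,
    14, 22]) (by decide +kernel) (by decide +kernel)
theorem ne20b : wd w20 ^ 4 ≠ 1 :=
  pow_ne_one lt20 (L := [19, 17, 17, 13, 15, 17, 15, 15, 17, 15, 19, 15, 13, 17, 15, 17, 15, 15, 15, 13, 13, 17,
    13, 19]) (by decide +kernel) (by decide +kernel)

theorem order15 : orderOf (wd w15) = 15 := by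
  refine orderOf_eq_of_pow_and_pow_div_prime (by norm_num) pow15 fun p hp hd => ?_
  have h1 : p ∣ 3 * 5 := hd
  rcases (hp.dvd_mul).1 h1 with h | h
  · rw [(Nat.prime_dvd_prime_iff_eq hp (by norm_num)).1 h]
    exact ne15a
  · rw [(Nat.prime_dvd_prime_iff_eq hp (by norm_num)).1 h]
    exact ne15b

theorem order20 : orderOf (wd w20) = 20 := by
  refine orderOf_eq_of_pow_and_pow_div_prime (by norm_num) pow20 fun p hp hd => ?_
  have h1 : p ∣ 2 ^ 2 * 5 := hd
  rcases (hp.dvd_mul).1 h1 with h | h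
  · rw [(Nat.prime_dvd_prime_iff_eq hp (by norm_num)).1 (hp.dvd_of_dvd_pow h)]
    exact ne20a
  · rw [(Nat.prime_dvd_prime_iff_eq hp (by norm_num)).1 h]
    exact ne20b

theorem tr15 : tr8 (prodW el w15) = 8 :=
  (tr8_word lt15 (L := [19, 15, 17, 15, 17, 15, 15, 19, 17, 17, 15, 15, 15, 17, 17, 15, 13, 15, 15, 17, 19, 15,
    19, 19]) (by decide +kernel)).trans (by decide +kernel)

theorem tr20 : tr8 (prodW el w20) = 8 :=
  (tr8_word lt20 (L := [22, 18, 14, 16, 14, 18, 18, 16, 16, 18, 14, 14, 18, 14, 16, 18, 16, 14, 16, 16, 14, 14,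
    16, 22]) (by decide +kernel)).trans (by decide +kernel)

theorem lchi_wd (w : List ℕ) : lchi Cfsg.Agent.H419.Spor.Co2.inc (wd w) = (tr8 (prodW el w) : ℂ) / 8 := by
  have h1 : Cfsg.Agent.H419.Spor.Co2.inc (wd w) =
      Cfsg.Agent.H419.Spor.Co2.c * prodW el w * Cfsg.Agent.H419.Spor.Co2.c⁻¹ := rfl
  rw [lchi, h1, tr8_conj]

theorem card_co2 : Nat.card Spor.Co2 = 42305421312000 := Cfsg.Agent.BiChar.Small.card_Co2

theorem finite_co2 : Finite Spor.Co2 := Nat.finite_of_card_ne_zero (by rw [card_co2]; norm_num)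

theorem van {w : List ℕ} (h : tr8 (prodW el w) = 8) : Van Spor.Co2 (wd w) := by
  have hs : IsSimpleGroup Spor.Co2 := Cfsg.Agent.Schreier.CoTwoStab.isSimpleGroup
  have hfin := finite_co2
  obtain ⟨μ, hμ⟩ := irr23 Cfsg.Agent.H419.Spor.Co2.inc Cfsg.Agent.H419.Spor.Co2.inc_injective
    (by rw [card_co2]; norm_num) Cfsg.Agent.H419.Spor.Co2.k ⟨Cfsg.Agent.H419.Spor.Co3.y14, fun h => by
      have := Cfsg.Agent.H419.Spor.Co2.order
      rw [h, orderOf_one] at this
      norm_num at this⟩ Cfsg.Agent.H419.Spor.Co2.inc_k (w := Cfsg.Agent.H419.Spor.Co2.leechW) (fun h => by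
        have := congrArg (fun v : leechLattice => (v : GolayPt → ℤ) none) h
        exact absurd this (by decide)) Cfsg.Agent.H419.Spor.Co2.inc_fix
  refine ⟨μ, ?_⟩
  have h1 := hμ (wd w)
  rw [lchi_wd, h] at h1
  have h2 : ((8 : ℤ) : ℂ) / 8 = 1 := by norm_num
  rw [h2] at h1
  exact (left_eq_add.1 h1)

theorem vz {w : List ℕ} (h : tr8 (prodW el w) = 8) : VZ Spor.Co2 (wd w) := by
  have hs : IsSimpleGroup Spor.Co2 := Cfsg.Agent.Schreier.CoTwoStab.isSimpleGroup
  have hfin := finite_co2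
  exact vz_of_inner (van h) (inner_of_out Cfsg.Agent.S2070.result)

/-- **The row `Co₂`, `p = 5`.** -/
theorem two_co2_5 {K : Type u} [Group K] (h : Spor.IsoCo2 K) : Cfsg.Agent.H387.VO.TwoVan 5 K := by
  obtain ⟨e⟩ := h
  refine (Cfsg.Agent.H387.VO.TwoVan.of_order (x := wd w15) (y := wd w20) ?_ ?_ (vz tr15) (vz tr20) ?_).mulEquiv e.symm
  · rw [order15]; norm_num
  · rw [order20]; norm_num
  · rw [order15, order20]; norm_num

end Cfsg.Agent.H220.S4987.Co2
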